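import Groth.Agent.RegLocus.FieldTensor
import Mathlib.RingTheory.Unramified.Field
import Mathlib.RingTheory.Nilpotent.GeometricallyReduced
import Mathlib.RingTheory.Artinian.Module

/-!
Regular rings along smooth maps / flat surjections; helpers for geometric regularity.
-/

set_option autoImplicit false

universe u

open TensorProduct

namespace Groth.Agent.GeomRegH

theorem isGeometricallyReduced_of_isSeparable (k L : Type u) [Field k] [Field L] [Algebra k L]
    [Algebra.IsSeparable k L] : Algebra.IsGeometricallyReduced k L := by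
  refine Algebra.IsGeometricallyReduced.of_forall_fg fun B hB => ?_
  have : Algebra.FiniteType k B := (Subalgebra.fg_iff_finiteType B).1 hB
  have : Algebra.IsIntegral k B := ⟨fun x => (isIntegral_algHom_iff B.val Subtype.val_injective).1
    (Algebra.IsIntegral.isIntegral (x : L))⟩
  have hfd : Module.Finite k B := Algebra.IsIntegral.finite
  have hB' : IsField B := by
    have : IsDomain B := inferInstance
    exact isField_of_isIntegral_of_isField' (R := k) (Field.toIsField k)
  let : Field B := hB'.toField
  have : Algebra.IsSeparable k B := ⟨fun x => IsSeparable.of_algHom B.val (Algebra.IsSeparable.isSeparable k (B.val x))⟩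
  have : Algebra.FormallyEtale k B := Algebra.FormallyEtale.of_isSeparable k B
  rw [Algebra.isGeometricallyReduced_field_iff]
  exact Algebra.FormallyUnramified.isReduced_of_field (AlgebraicClosure k) _

theorem isRegularRing_of_smooth (R S : Type u) [CommRing R] [CommRing S] [Algebra R S]
    [IsRegularRing R] [Algebra.Smooth R S] : IsRegularRing S := by
  have : IsNoetherianRing S := Algebra.FiniteType.isNoetherianRing R S
  refine isRegularRing_iff.2 fun P _ => ?_
  have : Algebra.IsSmoothAt R P := (Algebra.smoothLocus_eq_univ (R := R) (A := S)).ge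
    (Set.mem_univ (⟨P, ‹_›⟩ : PrimeSpectrum S))
  exact RegLocus.regular_of_smoothAt R S P (isRegularRing_iff.1 ‹_› _)

theorem isRegularRing_of_flat_surjective (R S : Type u) [CommRing R] [CommRing S] [Algebra R S]
    [IsRegularRing R] [Module.Flat R S] (h : Function.Surjective (algebraMap R S)) :
    IsRegularRing S := by
  have : IsNoetherianRing S := isNoetherianRing_of_surjective R S _ h
  refine isRegularRing_iff.2 fun P _ => ?_
  exact RegLocus.regular_of_map_comap R S P (Ideal.map_comap_of_surjective _ h P).ge
    (isRegularRing_iff.1 ‹_› _)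

/-- the base change `R ⊗ A → L ⊗ A` of a flat surjection is a flat surjection -/
theorem surjective_map_tensor (k A R L : Type u) [CommRing k] [CommRing A] [CommRing R] [CommRing L]
    [Algebra k A] [Algebra k R] [Algebra k L] (f : R →ₐ[k] L) (hf : Function.Surjective f) :
    Function.Surjective (Algebra.TensorProduct.map f (AlgHom.id k A)) :=
  TensorProduct.map_surjective hf Function.surjective_id

theorem flat_of_reduced_artinian (R L : Type u) [CommRing R] [CommRing L] [Algebra R L]
    [IsArtinianRing R] [IsReduced R] : Module.Flat R L := by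
  have : IsSemisimpleRing R := IsArtinianRing.isSemisimpleRing_of_isReduced R
  have : Module.Projective R L := Module.projective_of_isSemisimpleRing R L
  infer_instance

/-- regularity of `R ⊗ A` from that of all `L ⊗ A`, `L` a residue field of the reduced artinian `R` -/
theorem isRegularRing_tensor_of_residue (k A R : Type u) [CommRing k] [CommRing A] [CommRing R]
    [Algebra k A] [Algebra k R] [IsArtinianRing R] [IsReduced R] [IsNoetherianRing (R ⊗[k] A)]
    (h : ∀ (q : Ideal R), q.IsMaximal → IsRegularRing ((R ⧸ q) ⊗[k] A)) :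
    IsRegularRing (R ⊗[k] A) := by
  refine isRegularRing_iff.2 fun P _ => ?_
  let q := P.comap (Algebra.TensorProduct.includeLeftRingHom : R →+* R ⊗[k] A)
  have hq : q.IsMaximal := IsArtinianRing.isMaximal_of_isPrime q
  have this' := h q hq
  let f := (Algebra.TensorProduct.map (Ideal.Quotient.mkₐ k q) (AlgHom.id k A))
  letI : Algebra (R ⊗[k] A) ((R ⧸ q) ⊗[k] A) := f.toRingHom.toAlgebra
  have : Module.Flat R (R ⧸ q) := flat_of_reduced_artinian R _
  have : Module.Flat (R ⊗[k] A) ((R ⧸ q) ⊗[k] A) := RegLocus.flat_map_tensor k A R (R ⧸ q)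
  have hs : Function.Surjective (algebraMap (R ⊗[k] A) ((R ⧸ q) ⊗[k] A)) :=
    surjective_map_tensor k A R (R ⧸ q) _ Ideal.Quotient.mk_surjective
  have hker : RingHom.ker (algebraMap (R ⊗[k] A) ((R ⧸ q) ⊗[k] A)) ≤ P := by
    have e := Algebra.TensorProduct.rTensor_ker (R := k) (S := k) (C := A)
      (Ideal.Quotient.mkₐ k q) Ideal.Quotient.mk_surjective
    intro x hx
    have hx' : x ∈ RingHom.ker f := hx
    rw [e] at hx'
    have hle : RingHom.ker (Ideal.Quotient.mkₐ k q) ≤ q := fun r hr =>
      Ideal.Quotient.eq_zero_iff_mem.1 hr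
    exact Ideal.map_le_iff_le_comap.2 hle hx'
  let P' := P.map (algebraMap (R ⊗[k] A) ((R ⧸ q) ⊗[k] A))
  have : P'.IsPrime := Ideal.map_isPrime_of_surjective hs hker
  have hc : P'.comap (algebraMap (R ⊗[k] A) ((R ⧸ q) ⊗[k] A)) = P := by
    simp only [P', Ideal.comap_map_of_surjective' _ hs, sup_eq_left.2 hker]
  exact RegLocus.regular_congr hc
    (RegLocus.regular_descend (R ⊗[k] A) _ P' (isRegularRing_iff.1 this' P'))

end Groth.Agent.GeomRegH
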