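import Groth.Agent.CAlgReg.Basic
import Mathlib

/-!
A Noetherian ring which is a filtered colimit of regular rings is regular.
-/

set_option autoImplicit false

universe u v

open IsLocalRing

namespace Groth.Agent.GeomRegH

/-- elements of a local ring that are "independent modulo `m ^ 2`" -/
def Indep {A : Type u} [CommRing A] [IsLocalRing A] {d : ℕ} (x : Fin d → A) : Prop :=
  ∀ r : Fin d → A, (∑ l, r l * x l) ∈ maximalIdeal A ^ 2 → ∀ l, r l ∈ maximalIdeal A

theorem Indep.of_map {A B : Type u} [CommRing A] [IsLocalRing A] [CommRing B] [IsLocalRing B]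
    (g : A →+* B) [IsLocalHom g] {d : ℕ} {x : Fin d → A} (h : Indep fun l => g (x l)) : Indep x := by
  intro r hr l
  have h1 : g (∑ l, r l * x l) ∈ maximalIdeal B ^ 2 := by
    have := Ideal.mem_map_of_mem g hr
    rw [Ideal.map_pow] at this
    exact Ideal.pow_right_mono (((local_hom_TFAE g).out 0 2).mp ‹_›) 2 this
  simp only [map_sum, map_mul] at h1
  exact fun hu => h (fun l => g (r l)) h1 l (hu.map g)

theorem Indep.linearIndependent {A : Type u} [CommRing A] [IsLocalRing A] {d : ℕ}
    {x : Fin d → maximalIdeal A} (h : Indep fun l => (x l : A)) :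
    LinearIndependent (ResidueField A) fun l => (maximalIdeal A).toCotangent (x l) := by
  rw [Fintype.linearIndependent_iff]
  intro c hc l
  choose r hr using fun l => residue_surjective (c l)
  have h1 : (maximalIdeal A).toCotangent (∑ l, r l • x l) = 0 := by
    rw [map_sum]
    simp only [map_smul]
    rw [← hc]
    refine Finset.sum_congr rfl fun l _ => ?_
    rw [← hr l]; rfl
  rw [Ideal.toCotangent_eq_zero] at h1
  have h2 := h r (by simpa using h1) l
  rw [← hr l]
  exact Ideal.Quotient.eq_zero_iff_mem.2 h2

theorem indep_of_span {A : Type u} [CommRing A] [IsLocalRing A] [IsNoetherianRing A] {d : ℕ}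
    (x : Fin d → A) (hx : Ideal.span (Set.range x) = maximalIdeal A)
    (hd : d = (maximalIdeal A).spanFinrank) : Indep x := by
  intro r hr
  let y : Fin d → maximalIdeal A := fun l => ⟨x l, hx ▸ Ideal.subset_span ⟨l, rfl⟩⟩
  have hspan : Submodule.span (ResidueField A) ((maximalIdeal A).toCotangent '' Set.range y) = ⊤ := by
    rw [CotangentSpace.span_image_eq_top_iff]
    apply Submodule.map_injective_of_injective (maximalIdeal A).injective_subtype
    rw [Submodule.map_span, Submodule.map_top, Submodule.range_subtype, ← Set.range_comp]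
    exact hx
  have hli : LinearIndependent (ResidueField A) fun l => (maximalIdeal A).toCotangent (y l) := by
    refine linearIndependent_of_top_le_span_of_card_eq_finrank ?_ ?_
    · rw [← Set.range_comp] at hspan; exact hspan.ge
    · rw [Fintype.card_fin, ← spanFinrank_maximalIdeal_eq_finrank_cotangentSpace, hd]
  have h1 : (maximalIdeal A).toCotangent (∑ l, r l • y l) = 0 := by
    rw [Ideal.toCotangent_eq_zero]; simpa [y] using hr
  simp only [map_sum, map_smul] at h1
  intro l
  have := Fintype.linearIndependent_iff.1 hli (fun l => residue A (r l)) (by rw [← h1]; rfl) l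
  exact Ideal.Quotient.eq_zero_iff_mem.1 this

/-- in a regular local ring, independent elements form a weakly regular sequence -/
theorem Indep.mem_of_mul_mem {A : Type u} [CommRing A] [IsRegularLocalRing A] {d : ℕ} {x : Fin d → A}
    (hm : ∀ l, x l ∈ maximalIdeal A) (hx : Indep x) (k : Fin d) (a : A)
    (h : x k * a ∈ Ideal.span (x '' Set.Iio k)) : a ∈ Ideal.span (x '' Set.Iio k) := by
  classical
  let y : Fin d → maximalIdeal A := fun l => ⟨x l, hm l⟩
  have hli := Indep.linearIndependent (x := y) hx
  let s : Finset (maximalIdeal A) := (Finset.Iio k).image y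
  have hs : LinearIndepOn (ResidueField A) (maximalIdeal A).toCotangent (s : Set (maximalIdeal A)) := by
    rw [Finset.coe_image]
    exact LinearIndepOn.image_of_comp y _ (hli.linearIndepOn (s := _))
  obtain ⟨t, ht, hcard⟩ := CAlgReg.exists_extend s hs
  have himg : ((s.image ((↑) : maximalIdeal A → A) : Finset A) : Set A) = x '' Set.Iio k := by
    simp only [s, Finset.coe_image, Finset.coe_Iio, Set.image_image, y]
  have hp : (Ideal.span (x '' Set.Iio k)).IsPrime := by
    rw [← himg]
    refine CAlgReg.isPrime_span (d := (maximalIdeal A).spanFinrank) CAlgReg.dim_eq_spanFinrank _ t ?_ ?_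
    · rw [Finset.coe_image]; exact ht
    · exact (Nat.add_le_add_right Finset.card_image_le _).trans hcard
  refine (hp.mem_or_mem h).resolve_left fun hk => ?_
  rw [Finsupp.mem_span_image_iff_linearCombination] at hk
  obtain ⟨c, hc, hck⟩ := hk
  have hsum : ∑ l, ((if l = k then 1 else 0) - c l) * x l = 0 := by
    simp only [sub_mul, Finset.sum_sub_distrib, ite_mul, one_mul, zero_mul, Finset.sum_ite_eq',
      Finset.mem_univ, if_true]
    rw [← hck, Finsupp.linearCombination_apply, Finsupp.sum_fintype]
    all_goals simp [smul_eq_mul]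
  have h1 := hx _ (hsum ▸ zero_mem _) k
  rw [if_pos rfl, (Finsupp.mem_supported' A c).1 hc k (lt_irrefl k), sub_zero] at h1
  exact (maximalIdeal A).ne_top_iff_one.1 (maximalIdeal.isMaximal A).ne_top h1

/-- a local ring whose maximal ideal is generated by a weakly regular sequence is regular -/
theorem regular_of_seq {A : Type u} [CommRing A] [IsLocalRing A] [IsNoetherianRing A] {d : ℕ} (x : Fin d → A)
    (hx : Ideal.span (Set.range x) = maximalIdeal A)
    (h : ∀ (k : Fin d) (a : A), x k * a ∈ Ideal.span (x '' Set.Iio k) → a ∈ Ideal.span (x '' Set.Iio k)) :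
    IsRegularLocalRing A := by
  have key : ∀ (n : ℕ) (j : ℕ), j + n = d → ∀ (I : Ideal A),
      I = Ideal.span (x '' {l | (l : ℕ) < j}) → IsRegularLocalRing (A ⧸ I) := by
    intro n
    induction n with
    | zero =>
      intro j hj I hI
      have : I = maximalIdeal A := by
        rw [hI, ← hx, ← Set.image_univ]
        congr 2
        ext l; simpa using lt_of_lt_of_le l.2 (by omega)
      subst this
      exact IsRegularLocalRing.of_ringEquiv (R := ResidueField A) (RingEquiv.refl _)
    | succ n ih =>
      intro j hj I hI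
      let k : Fin d := ⟨j, by omega⟩
      have hIk : I = Ideal.span (x '' Set.Iio k) := hI
      have hJ : (Ideal.span (x '' {l | (l : ℕ) < j + 1})) = I ⊔ Ideal.span {x k} := by
        rw [hI, ← Ideal.span_union, ← Set.image_singleton, ← Set.image_union]
        congr 2
        ext l
        simp only [Set.mem_ofPred_eq, Set.mem_union, Set.mem_singleton_iff, Fin.ext_iff, k]
        omega
      have := ih (j + 1) (by omega) _ rfl
      have hne : I ≠ ⊤ := ne_top_of_le_ne_top (maximalIdeal.isMaximal A).ne_top
        (by rw [hI, ← hx]; exact Ideal.span_mono (Set.image_subset_range _ _))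
      have : Nontrivial (A ⧸ I) := Ideal.Quotient.nontrivial_iff.2 hne
      have : IsLocalRing (A ⧸ I) := IsLocalRing.of_surjective' _ Ideal.Quotient.mk_surjective
      have : IsRegularLocalRing ((A ⧸ I) ⧸ Ideal.span {Ideal.Quotient.mk I (x k)}) := by
        refine IsRegularLocalRing.of_ringEquiv (R := A ⧸ Ideal.span (x '' {l | (l : ℕ) < j + 1}))
          ((Ideal.quotEquivOfEq hJ).trans ((DoubleQuot.quotQuotEquivQuotSup I _).symm.trans
            (Ideal.quotEquivOfEq ?_)))
        rw [Ideal.map_span, Set.image_singleton]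
      refine CAlgReg.of_quotient_span_singleton (x := Ideal.Quotient.mk I (x k)) ?_ ?_
      · rw [← IsLocalRing.map_maximalIdeal_of_surjective _ Ideal.Quotient.mk_surjective]
        exact Ideal.mem_map_of_mem _ (hx ▸ Ideal.subset_span ⟨k, rfl⟩)
      · rw [mem_nonZeroDivisors_iff_right]
        intro z hz
        obtain ⟨a, rfl⟩ := Ideal.Quotient.mk_surjective z
        rw [← map_mul, Ideal.Quotient.eq_zero_iff_mem, mul_comm, hIk] at hz
        rw [Ideal.Quotient.eq_zero_iff_mem, hIk]
        exact h k a hz
  have := key d 0 (by omega) ⊥ (by simp)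
  exact IsRegularLocalRing.of_ringEquiv (R := A ⧸ (⊥ : Ideal A)) (RingEquiv.quotientBot A)

/-- a Noetherian ring which is a filtered colimit of regular rings is regular -/
theorem isRegularRing_of_colim (T : Type u) [CommRing T] [IsNoetherianRing T] {ι : Type v} [Preorder ι]
    [IsDirectedOrder ι] [Nonempty ι] (H : ι → Type u) [∀ i, CommRing (H i)] [∀ i, IsRegularRing (H i)]
    (φ : ∀ i j, i ≤ j → H i →+* H j) (ψ : ∀ i, H i →+* T)
    (hc : ∀ i j (h : i ≤ j) (z : H i), ψ j (φ i j h z) = ψ i z)
    (hsurj : ∀ t : T, ∃ i, ∃ z, ψ i z = t)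
    (hker : ∀ i (z : H i), ψ i z = 0 → ∃ j, ∃ h : i ≤ j, φ i j h z = 0) : IsRegularRing T := by
  classical
  refine isRegularRing_iff.2 fun P _ => ?_
  let A := Localization.AtPrime P
  obtain ⟨d, hd⟩ : ∃ d, (maximalIdeal A).spanFinrank = d := ⟨_, rfl⟩
  obtain ⟨s, hsc, hs⟩ := Submodule.FG.exists_span_finset_card_eq_spanFinrank
    (maximalIdeal A).fg_of_isNoetherianRing
  let e : Fin d ≃ s := (Finset.equivFinOfCardEq (hsc.trans hd)).symm
  choose num hnum using fun l : Fin d => IsLocalization.surj P.primeCompl ((e l : A))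
  let x : Fin d → T := fun l => (num l).1
  let xA : Fin d → A := fun l => algebraMap T A (x l)
  have hxA : Ideal.span (Set.range xA) = maximalIdeal A := by
    refine le_antisymm (Ideal.span_le.2 ?_) ?_
    · rintro _ ⟨l, rfl⟩
      show algebraMap T A (num l).1 ∈ maximalIdeal A
      rw [← hnum l]
      exact Ideal.mul_mem_right _ _ (hs ▸ Ideal.subset_span (e l).2)
    · rw [← show Ideal.span (s : Set A) = maximalIdeal A from hs, Ideal.span_le]
      intro a ha
      obtain ⟨l, hl⟩ := e.surjective ⟨a, ha⟩
      have hu := IsLocalization.map_units A (num l).2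
      rw [SetLike.mem_coe, ← Ideal.mul_unit_mem_iff_mem _ hu, show a = (e l : A) by rw [hl], hnum l]
      exact Ideal.subset_span ⟨l, rfl⟩
  have hind : Indep xA := indep_of_span xA hxA hd.symm
  refine regular_of_seq xA hxA fun k a ha => ?_
  obtain ⟨⟨a0, s0⟩, ha0⟩ := IsLocalization.surj P.primeCompl a
  have hu0 := IsLocalization.map_units A s0
  rw [← Ideal.mul_unit_mem_iff_mem _ hu0, show a * algebraMap T A s0 = algebraMap T A a0 from ha0]
  have himg : ∀ S : Set (Fin d), (Ideal.span (x '' S)).map (algebraMap T A) = Ideal.span (xA '' S) :=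
    fun S => by rw [Ideal.map_span, Set.image_image]
  have h1 : algebraMap T A (x k * a0) ∈ (Ideal.span (x '' Set.Iio k)).map (algebraMap T A) := by
    rw [himg, map_mul, ← show a * algebraMap T A s0 = algebraMap T A a0 from ha0, ← mul_assoc]
    exact Ideal.mul_mem_right _ _ ha
  rw [IsLocalization.algebraMap_mem_map_algebraMap_iff P.primeCompl] at h1
  obtain ⟨t, ht, h2⟩ := h1
  rw [Finsupp.mem_span_image_iff_linearCombination] at h2
  obtain ⟨c, hcS, hck⟩ := h2
  -- descend the equation to a finite stage
  choose st lift hlift using hsurj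
  let data : (Fin d ⊕ Fin d) ⊕ Bool → T := Sum.elim (Sum.elim x c) (fun b => if b then a0 else t)
  obtain ⟨i, hi⟩ := Finite.exists_le fun z => st (data z)
  let L : (Fin d ⊕ Fin d) ⊕ Bool → H i := fun z => φ _ _ (hi z) (lift (data z))
  have hL : ∀ z, ψ i (L z) = data z := fun z => by rw [hc, hlift]
  let X := fun l => L (.inl (.inl l))
  let C := fun l => L (.inl (.inr l))
  let E : H i := L (.inr false) * (X k * L (.inr true)) - ∑ l ∈ Finset.Iio k, C l * X l
  have hE : ψ i E = 0 := by
    simp only [E, X, C, map_sub, map_sum, map_mul, hL, data, Sum.elim_inl, Sum.elim_inr, if_true,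
      Bool.false_eq_true, if_false]
    rw [← hck, Finsupp.linearCombination_apply,
      Finsupp.sum_of_support_subset c (s := Finset.Iio k) (fun l hl => Finset.mem_Iio.2 (hcS hl))]
    all_goals simp [smul_eq_mul, x]
  obtain ⟨j, hij, hj⟩ := hker i E hE
  let Pj := P.comap (ψ j)
  let g : Localization.AtPrime Pj →+* A := Localization.localRingHom Pj P (ψ j) rfl
  have : IsLocalHom g := Localization.isLocalHom_localRingHom _ _ _ rfl
  have hgto : ∀ z : H i, g (algebraMap _ _ (φ i j hij z)) = algebraMap T A (ψ i z) := fun z => by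
    rw [Localization.localRingHom_to_map, hc]
  let Xj : Fin d → Localization.AtPrime Pj := fun l => algebraMap _ _ (φ i j hij (X l))
  have hgX : ∀ l, g (Xj l) = xA l := fun l => by
    simp only [Xj, hgto, X, hL, data, Sum.elim_inl, xA]
  have hreg : IsRegularLocalRing (Localization.AtPrime Pj) := isRegularRing_iff.1 inferInstance Pj
  have hmX : ∀ l, Xj l ∈ maximalIdeal (Localization.AtPrime Pj) := fun l hu => by
    have := hu.map g
    rw [hgX] at this
    exact (hxA ▸ Ideal.subset_span ⟨l, rfl⟩ : xA l ∈ maximalIdeal A) this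
  have hindj : Indep Xj := Indep.of_map g (by simpa only [hgX] using hind)
  have hut : IsUnit (algebraMap (H j) (Localization.AtPrime Pj) (φ i j hij (L (.inr false)))) :=
    IsLocalization.map_units (M := Pj.primeCompl) _ (⟨φ i j hij (L (.inr false)), fun hm => ht (by
      have : ψ j (φ i j hij (L (.inr false))) ∈ P := hm
      rw [hc, hL] at this; simpa [data] using this)⟩ : Pj.primeCompl)
  have hmem : Xj k * algebraMap _ _ (φ i j hij (L (.inr true))) ∈ Ideal.span (Xj '' Set.Iio k) := by
    rw [← Ideal.unit_mul_mem_iff_mem _ hut]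
    have h0 := congrArg (algebraMap (H j) (Localization.AtPrime Pj)) hj
    simp only [E, map_sub, map_sum, map_mul, map_zero, sub_eq_zero] at h0
    rw [h0]
    exact Ideal.sum_mem _ fun l hl => Ideal.mul_mem_left _ _ (Ideal.subset_span ⟨l, Finset.mem_Iio.1 hl, rfl⟩)
  have h3 := Ideal.mem_map_of_mem g (Indep.mem_of_mul_mem hmX hindj k _ hmem)
  rw [Ideal.map_span, Set.image_image, hgto, hL] at h3
  simpa [data, hgX] using h3

end Groth.Agent.GeomRegH
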